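import Mathlib
import Cfsg.Agent.Helper13.SpE

/-!
# `Sp_4(F)`, `2 ≠ 0`: three conjugate regular unipotents generate — definitions

Symplectic basis (Prelude sign convention, `B = Cfsg.sympForm 2 F`):
`e_i = Pi.single (Sum.inr i) 1`, `f_i = Pi.single (Sum.inl i) 1`, `B(e_i, f_j) = δ_ij`.
`Me a b z = E(e1, a e2 + b f2, z)`, `Mf a b z = E(f1, a e2 + b f2, z)` (Eichler elements),
`UW c = t_{e2,c}`, `T2 = t_{f2,-2}`, `sW` the Weyl element `e1 ↦ f1, f1 ↦ -e1`.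
-/

set_option autoImplicit false

namespace Cfsg.Agent.Helper13.Sp4O

open Matrix

abbrev V4 (F : Type*) := Fin 2 ⊕ Fin 2 → F
abbrev M4 (F : Type*) := Matrix (Fin 2 ⊕ Fin 2) (Fin 2 ⊕ Fin 2) F
abbrev Sp4 (F : Type*) [CommRing F] := Matrix.symplecticGroup (Fin 2) F

variable {F : Type*} [CommRing F]

def e1 : V4 F := Pi.single (Sum.inr 0) 1
def e2 : V4 F := Pi.single (Sum.inr 1) 1
def f1 : V4 F := Pi.single (Sum.inl 0) 1
def f2 : V4 F := Pi.single (Sum.inl 1) 1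

local notation "B" => Cfsg.sympForm 2 F

theorem B_apply (x y : V4 F) :
    B x y = x (Sum.inr 0) * y (Sum.inl 0) - x (Sum.inl 0) * y (Sum.inr 0)
      + (x (Sum.inr 1) * y (Sum.inl 1) - x (Sum.inl 1) * y (Sum.inr 1)) := by
  rw [Cfsg.Agent.Helper13.sympForm_eq_sum, Fin.sum_univ_two]

@[simp] theorem B_e1 (x : V4 F) : B x e1 = - x (Sum.inl 0) := by simp [B_apply, e1]
@[simp] theorem B_e2 (x : V4 F) : B x e2 = - x (Sum.inl 1) := by simp [B_apply, e2]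
@[simp] theorem B_f1 (x : V4 F) : B x f1 = x (Sum.inr 0) := by simp [B_apply, f1]
@[simp] theorem B_f2 (x : V4 F) : B x f2 = x (Sum.inr 1) := by simp [B_apply, f2]
@[simp] theorem e1_B (x : V4 F) : B e1 x = x (Sum.inl 0) := by simp [B_apply, e1]
@[simp] theorem e2_B (x : V4 F) : B e2 x = x (Sum.inl 1) := by simp [B_apply, e2]
@[simp] theorem f1_B (x : V4 F) : B f1 x = - x (Sum.inr 0) := by simp [B_apply, f1]
@[simp] theorem f2_B (x : V4 F) : B f2 x = - x (Sum.inr 1) := by simp [B_apply, f2]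

@[simp] theorem e1_inl (i : Fin 2) : (e1 : V4 F) (Sum.inl i) = 0 := by simp [e1]
@[simp] theorem e2_inl (i : Fin 2) : (e2 : V4 F) (Sum.inl i) = 0 := by simp [e2]
@[simp] theorem f1_inr (i : Fin 2) : (f1 : V4 F) (Sum.inr i) = 0 := by simp [f1]
@[simp] theorem f2_inr (i : Fin 2) : (f2 : V4 F) (Sum.inr i) = 0 := by simp [f2]
@[simp] theorem e1_inr0 : (e1 : V4 F) (Sum.inr 0) = 1 := by simp [e1]
@[simp] theorem e1_inr1 : (e1 : V4 F) (Sum.inr 1) = 0 := by simp [e1]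
@[simp] theorem e2_inr0 : (e2 : V4 F) (Sum.inr 0) = 0 := by simp [e2]
@[simp] theorem e2_inr1 : (e2 : V4 F) (Sum.inr 1) = 1 := by simp [e2]
@[simp] theorem f1_inl0 : (f1 : V4 F) (Sum.inl 0) = 1 := by simp [f1]
@[simp] theorem f1_inl1 : (f1 : V4 F) (Sum.inl 1) = 0 := by simp [f1]
@[simp] theorem f2_inl0 : (f2 : V4 F) (Sum.inl 0) = 0 := by simp [f2]
@[simp] theorem f2_inl1 : (f2 : V4 F) (Sum.inl 1) = 1 := by simp [f2]

/-- coordinates: `x = x_{e1} e1 + x_{e2} e2 + x_{f1} f1 + x_{f2} f2`. -/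
theorem vec_decomp (x : V4 F) :
    x = x (Sum.inr 0) • e1 + x (Sum.inr 1) • e2 + x (Sum.inl 0) • f1 + x (Sum.inl 1) • f2 := by
  ext i
  rcases i with i | i <;> fin_cases i <;> simp

/-- vector extensionality in coordinates -/
theorem vec_ext {x y : V4 F} (h1 : x (Sum.inr 0) = y (Sum.inr 0)) (h2 : x (Sum.inr 1) = y (Sum.inr 1))
    (h3 : x (Sum.inl 0) = y (Sum.inl 0)) (h4 : x (Sum.inl 1) = y (Sum.inl 1)) : x = y := by
  ext i
  rcases i with i | i <;> fin_cases i <;> assumption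

/-- matrices agreeing on the four basis vectors are equal -/
theorem mat_ext4 {M N : M4 F} (h1 : M *ᵥ e1 = N *ᵥ e1) (h2 : M *ᵥ e2 = N *ᵥ e2)
    (h3 : M *ᵥ f1 = N *ᵥ f1) (h4 : M *ᵥ f2 = N *ᵥ f2) : M = N := by
  ext i j
  rcases j with j | j <;> fin_cases j
  · have := congrFun h3 i; simpa [f1] using this
  · have := congrFun h4 i; simpa [f2] using this
  · have := congrFun h1 i; simpa [e1] using this
  · have := congrFun h2 i; simpa [e2] using this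

/-- `E(e1, a e2 + b f2, z)` -/
def Me (a b z : F) : M4 F := Cfsg.Agent.Helper13.SpE.Emat e1 (a • e2 + b • f2) z
/-- `E(f1, a e2 + b f2, z)` -/
def Mf (a b z : F) : M4 F := Cfsg.Agent.Helper13.SpE.Emat f1 (a • e2 + b • f2) z
/-- `t_{e2,c}` -/
def UW (c : F) : M4 F := Cfsg.sympTransvection 2 e2 c
/-- `t_{f2,-2}` -/
def T2 : M4 F := Cfsg.sympTransvection 2 f2 (-2)
/-- the Weyl element `e1 ↦ f1, f1 ↦ -e1`, fixing `e2, f2` -/
def sW : M4 F :=
  Matrix.fromBlocks !![0, 0; 0, 1] !![1, 0; 0, 0] !![-1, 0; 0, 0] !![0, 0; 0, 1]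

theorem B_e1_y (a b : F) : B e1 (a • e2 + b • f2) = 0 := by simp
theorem B_f1_y (a b : F) : B f1 (a • e2 + b • f2) = 0 := by simp

theorem Me_mem (a b z : F) : Me a b z ∈ Matrix.symplecticGroup (Fin 2) F :=
  Cfsg.Agent.Helper13.SpE.Emat_mem _ _ _ (B_e1_y a b)
theorem Mf_mem (a b z : F) : Mf a b z ∈ Matrix.symplecticGroup (Fin 2) F :=
  Cfsg.Agent.Helper13.SpE.Emat_mem _ _ _ (B_f1_y a b)
theorem UW_mem (c : F) : UW c ∈ Matrix.symplecticGroup (Fin 2) F :=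
  Cfsg.Agent.Helper13.sympTransvection_mem _ _
theorem T2_mem : (T2 : M4 F) ∈ Matrix.symplecticGroup (Fin 2) F :=
  Cfsg.Agent.Helper13.sympTransvection_mem _ _

theorem Me_mulVec (a b z : F) (x : V4 F) :
    Me a b z *ᵥ x = x + B x e1 • (a • e2 + b • f2) + B x (a • e2 + b • f2) • e1
      + (z * B x e1) • e1 :=
  Cfsg.Agent.Helper13.SpE.Emat_mulVec _ _ _ _
theorem Mf_mulVec (a b z : F) (x : V4 F) :
    Mf a b z *ᵥ x = x + B x f1 • (a • e2 + b • f2) + B x (a • e2 + b • f2) • f1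
      + (z * B x f1) • f1 :=
  Cfsg.Agent.Helper13.SpE.Emat_mulVec _ _ _ _
theorem UW_mulVec (c : F) (x : V4 F) : UW c *ᵥ x = x + (c * B x e2) • e2 :=
  Cfsg.Agent.Helper13.sympTransvection_mulVec _ _ _
theorem T2_mulVec (x : V4 F) : (T2 : M4 F) *ᵥ x = x + (-2 * B x f2) • f2 :=
  Cfsg.Agent.Helper13.sympTransvection_mulVec _ _ _

theorem sW_mulVec_e1 : (sW : M4 F) *ᵥ e1 = f1 := by
  apply vec_ext <;> simp [sW, e1, f1, Matrix.mulVec, dotProduct, Fintype.sum_sum_type]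
theorem sW_mulVec_f1 : (sW : M4 F) *ᵥ f1 = -e1 := by
  apply vec_ext <;> simp [sW, e1, f1, Matrix.mulVec, dotProduct, Fintype.sum_sum_type]
theorem sW_mulVec_e2 : (sW : M4 F) *ᵥ e2 = e2 := by
  apply vec_ext <;> simp [sW, e2, Matrix.mulVec, dotProduct, Fintype.sum_sum_type]
theorem sW_mulVec_f2 : (sW : M4 F) *ᵥ f2 = f2 := by
  apply vec_ext <;> simp [sW, f2, Matrix.mulVec, dotProduct, Fintype.sum_sum_type]

theorem sW_mem : (sW : M4 F) ∈ Matrix.symplecticGroup (Fin 2) F := by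
  rw [SymplecticGroup.mem_iff]
  ext i j
  rcases i with i | i <;> rcases j with j | j <;> fin_cases i <;> fin_cases j <;>
    simp [sW, Matrix.J, Matrix.mul_apply, Fintype.sum_sum_type, Matrix.fromBlocks_transpose]

/-! ### the group elements -/

def MeS (a b z : F) : Sp4 F := ⟨Me a b z, Me_mem a b z⟩
def MfS (a b z : F) : Sp4 F := ⟨Mf a b z, Mf_mem a b z⟩
def UWS (c : F) : Sp4 F := ⟨UW c, UW_mem c⟩
def T2S : Sp4 F := ⟨T2, T2_mem⟩
def sS : Sp4 F := ⟨sW, sW_mem⟩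
/-- the transvection `t_{w,c}` as a group element -/
def tvS (w : V4 F) (c : F) : Sp4 F :=
  ⟨Cfsg.sympTransvection 2 w c, Cfsg.Agent.Helper13.sympTransvection_mem w c⟩

@[simp] theorem coe_MeS (a b z : F) : ((MeS a b z : Sp4 F) : M4 F) = Me a b z := rfl
@[simp] theorem coe_MfS (a b z : F) : ((MfS a b z : Sp4 F) : M4 F) = Mf a b z := rfl
@[simp] theorem coe_UWS (c : F) : ((UWS c : Sp4 F) : M4 F) = UW c := rfl
@[simp] theorem coe_T2S : ((T2S : Sp4 F) : M4 F) = T2 := rfl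
@[simp] theorem coe_sS : ((sS : Sp4 F) : M4 F) = sW := rfl
@[simp] theorem coe_tvS (w : V4 F) (c : F) :
    ((tvS w c : Sp4 F) : M4 F) = Cfsg.sympTransvection 2 w c := rfl

end Cfsg.Agent.Helper13.Sp4O

namespace Cfsg.Agent.Helper13.Sp4O

variable {F : Type*} [Field F]

/-- the regular unipotent `u = t_{e2,θ/2} * E(e1,-f2,0)` -/
noncomputable def uS (θ : F) : Sp4 F := UWS (θ / 2) * MeS 0 (-1) 0
/-- `g = E(e1, -θ⁻¹ e2 + 2θ⁻¹ f2, 0)` -/
noncomputable def gS (θ : F) : Sp4 F := MeS (-θ⁻¹) (2 * θ⁻¹) 0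

end Cfsg.Agent.Helper13.Sp4O
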