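import Mathlib
import Cfsg.Agent.Helper13.Sp4O.Defs
import Cfsg.Agent.S0765
import Cfsg.Agent.Helper10.Sp4OBRAID
import Cfsg.Agent.Helper10.Sp4OGCONJ
import Cfsg.Agent.Helper10.Sp4OSCONJ
import Cfsg.Agent.Helper22.Sp4OGEN
import Cfsg.Agent.Helper22.Sp4OTVZ
import Cfsg.Agent.Helper48.Sp4OXCOMM
import Cfsg.Agent.Helper55.Sp4OLAM
import Cfsg.Agent.Helper55.Sp4OTVF
import Cfsg.Agent.Helper65.Sp4OUCONJE
import Cfsg.Agent.Helper68.Sp4OCEN
import Cfsg.Agent.Helper68.Sp4OCOMMT2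
import Cfsg.Agent.Helper81.Sp4OTCONJE
import Cfsg.Agent.Helper87.Sp4ONILP
import Cfsg.Agent.Helper87.Sp4OREGU
import Cfsg.Agent.Helper89.Sp4OBRMEM
import Cfsg.Agent.Helper89.Sp4OTVE
import Cfsg.Agent.Helper93.Sp4OMULE
import Cfsg.Agent.Helper93.Sp4OMULF

/-!
# `Sp_4(F)`, `F` finite with `2 ≠ 0`, is generated by three conjugate regular unipotents

Sub-theorem (n = 2, q odd) of S2281.  Design: `θ` with `Subring.closure {θ} = ⊤`, `c = θ/2`,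
`u = t_{e2,c} E(e1,-f2,0)`, `g = E(e1, -θ⁻¹ e2 + 2θ⁻¹ f2, 0)`, `h = s` (Weyl element).
Pieces delegated via board #10428.
-/

set_option autoImplicit false

namespace Cfsg.Agent.Helper13.Sp4O

open Matrix

variable {F : Type*} [Field F]


/-- (UCONJF) -/
theorem UWS_conj_MfS (c a b z : F) : UWS c * MfS a b z * (UWS c)⁻¹ = MfS (a - c * b) b z := by
  rw [mul_inv_eq_iff_eq_mul]
  apply Subtype.ext
  show (UW c : M4 F) * Mf a b z = Mf (a - c * b) b z * UW c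
  apply mat_ext4
  all_goals
    rw [← Matrix.mulVec_mulVec, ← Matrix.mulVec_mulVec]
    simp only [Mf_mulVec, UW_mulVec]
    apply vec_ext <;> simp [B_apply] <;> ring

/-- (TCONJF) -/
theorem T2S_conj_MfS (a b z : F) : T2S * MfS a b z * T2S⁻¹ = MfS a (b - 2 * a) z := by
  rw [mul_inv_eq_iff_eq_mul]
  apply Subtype.ext
  show (T2 : M4 F) * Mf a b z = Mf a (b - 2 * a) z * T2
  apply mat_ext4
  all_goals
    rw [← Matrix.mulVec_mulVec, ← Matrix.mulVec_mulVec]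
    simp only [Mf_mulVec, T2_mulVec]
    apply vec_ext <;> simp [B_apply] <;> ring

theorem MeS_zero : MeS (0 : F) 0 0 = 1 := by
  apply Subtype.ext
  show Me (0 : F) 0 0 = 1
  rw [Me, zero_smul, zero_smul, add_zero, Cfsg.Agent.Helper13.SpE.Emat_zero_zero]

theorem MfS_zero : MfS (0 : F) 0 0 = 1 := by
  apply Subtype.ext
  show Mf (0 : F) 0 0 = 1
  rw [Mf, zero_smul, zero_smul, add_zero, Cfsg.Agent.Helper13.SpE.Emat_zero_zero]

theorem tvS_e1 (c : F) : tvS e1 c = MeS 0 0 c := by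
  apply Subtype.ext
  show Cfsg.sympTransvection 2 e1 c = Me 0 0 c
  rw [Me, zero_smul, zero_smul, add_zero, Cfsg.Agent.Helper13.SpE.Emat_zero_eq_sympTransvection]

theorem tvS_f1 (c : F) : tvS f1 c = MfS 0 0 c := by
  apply Subtype.ext
  show Cfsg.sympTransvection 2 f1 c = Mf 0 0 c
  rw [Mf, zero_smul, zero_smul, add_zero, Cfsg.Agent.Helper13.SpE.Emat_zero_eq_sympTransvection]

theorem eq_top_of_tv (H : Subgroup (Sp4 F)) (h : ∀ (w : V4 F) (c : F), tvS w c ∈ H) : H = ⊤ := by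
  rw [eq_top_iff, ← Cfsg.Agent.S0765.result (F := F) 2, Subgroup.closure_le]
  rintro A ⟨w, c, hA⟩
  have : A = tvS w c := Subtype.ext hA
  rw [this]
  exact h w c

theorem main_two_odd [Fintype F] (h2 : (2 : F) ≠ 0) :
    ∃ u g h : Matrix.symplecticGroup (Fin 2) F,
      IsNilpotent ((u : Matrix (Fin 2 ⊕ Fin 2) (Fin 2 ⊕ Fin 2) F) - 1) ∧
      ((u : Matrix (Fin 2 ⊕ Fin 2) (Fin 2 ⊕ Fin 2) F) - 1) ^ (2 * 2 - 1) ≠ 0 ∧
      Subgroup.closure ({u, g * u * g⁻¹, h * u * h⁻¹} : Set (Matrix.symplecticGroup (Fin 2) F)) = ⊤ := by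
  obtain ⟨θ, hθ0, hθ⟩ := Cfsg.Agent.Helper22.Sp4O.exists_gen (F := F)
  refine ⟨uS θ, gS θ, sS, Cfsg.Agent.Helper87.Sp4O.uS_isNilpotent θ, Cfsg.Agent.Helper87.Sp4O.uS_pow_three_ne θ hθ0 h2, ?_⟩
  set H : Subgroup (Sp4 F) :=
    Subgroup.closure {uS θ, gS θ * uS θ * (gS θ)⁻¹, sS * uS θ * sS⁻¹} with hH
  have hu : uS θ ∈ H := Subgroup.subset_closure (by simp)
  have hg : gS θ * uS θ * (gS θ)⁻¹ ∈ H := Subgroup.subset_closure (by simp)
  have hs : sS * uS θ * sS⁻¹ ∈ H := Subgroup.subset_closure (by simp)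
  have hX : MeS (1 : F) 0 0 ∈ H := by
    have h' : MeS (1 : F) 0 0 = gS θ * uS θ * (gS θ)⁻¹ * (uS θ)⁻¹ := by
      rw [Cfsg.Agent.Helper10.Sp4O.gS_conj_uS θ hθ0 h2]; group
    rw [h']; exact H.mul_mem hg (H.inv_mem hu)
  have hWY : UWS (θ / 2) * MfS 0 (-1) 0 ∈ H := by rw [← Cfsg.Agent.Helper10.Sp4O.sS_conj_uS]; exact hs
  have hYinv : (MfS (0 : F) (-1) 0)⁻¹ = MfS 0 1 0 := by
    apply inv_eq_of_mul_eq_one_right
    rw [Cfsg.Agent.Helper93.Sp4O.MfS_mul]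
    have e3' : MfS ((0 : F) + 0) (-1 + 1) (0 + 0 + (0 * -1 - 1 * 0)) = MfS 0 0 0 := by
      congr 1 <;> ring
    rw [e3', MfS_zero]
  obtain ⟨hW, hY⟩ := Cfsg.Agent.Helper89.Sp4O.mem_of_braid H (MeS (1 : F) 0 0) (UWS (θ / 2)) (MfS 0 (-1) 0) hX hWY
    (Cfsg.Agent.Helper48.Sp4O.X_comm_UW _) (by rw [hYinv]; exact Cfsg.Agent.Helper10.Sp4O.braid_XZ)
  have hA12 : MeS (0 : F) (-1) 0 ∈ H := by
    have h' : MeS (0 : F) (-1) 0 = (UWS (θ / 2))⁻¹ * uS θ := by simp [uS]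
    rw [h']; exact H.mul_mem (H.inv_mem hW) hu
  have hT2 : (T2S : Sp4 F) ∈ H := by
    rw [← Cfsg.Agent.Helper68.Sp4O.comm_A12_Y]
    exact H.mul_mem (H.mul_mem (H.mul_mem hA12 hY) (H.inv_mem hA12)) (H.inv_mem hY)
  have hc : θ / 2 ≠ 0 := div_ne_zero hθ0 h2
  have hθ' : Subring.closure {2 * (θ / 2)} = (⊤ : Subring F) := by
    rw [mul_div_cancel₀ _ h2]; exact hθ
  have hQe : ∀ a b z : F, MeS a b z ∈ H :=
    Cfsg.Agent.Helper68.Sp4O.all_mem_of_exists H MeS Cfsg.Agent.Helper93.Sp4O.MeS_mul h2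
      (Cfsg.Agent.Helper55.Sp4O.exists_mem_of_laws H MeS (UWS (θ / 2)) T2S (θ / 2)
        Cfsg.Agent.Helper93.Sp4O.MeS_mul (Cfsg.Agent.Helper65.Sp4O.UWS_conj_MeS _)
        Cfsg.Agent.Helper81.Sp4O.T2S_conj_MeS
        hW hT2 hA12 hc hθ')
  have hQf : ∀ a b z : F, MfS a b z ∈ H :=
    Cfsg.Agent.Helper68.Sp4O.all_mem_of_exists H MfS Cfsg.Agent.Helper93.Sp4O.MfS_mul h2
      (Cfsg.Agent.Helper55.Sp4O.exists_mem_of_laws H MfS (UWS (θ / 2)) T2S (θ / 2)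
        Cfsg.Agent.Helper93.Sp4O.MfS_mul (UWS_conj_MfS _) T2S_conj_MfS
        hW hT2 hY hc hθ')
  have he1 : ∀ c : F, tvS e1 c ∈ H := fun c => by rw [tvS_e1]; exact hQe 0 0 c
  have hf1 : ∀ c : F, tvS f1 c ∈ H := fun c => by rw [tvS_f1]; exact hQf 0 0 c
  have hE := Cfsg.Agent.Helper89.Sp4O.tv_mem_of_e1_coord H hQf he1
  have hFc := Cfsg.Agent.Helper55.Sp4O.tv_mem_of_f1_coord H hQe hf1
  have hall : ∀ (w : V4 F) (c : F), tvS w c ∈ H := by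
    intro w c
    by_cases h1 : w (Sum.inr 0) = 0
    · by_cases h2' : w (Sum.inl 0) = 0
      · exact Cfsg.Agent.Helper22.Sp4O.tv_mem_of_coords_zero H hQe hE w h1 h2' c
      · exact hFc w h2' c
    · exact hE w h1 c
  exact eq_top_of_tv H hall

end Cfsg.Agent.Helper13.Sp4O
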