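import Mathlib
import Cfsg.Agent.Helper13.Sp4O.Main

/-!
# `Sp_4(F)` (any field): a subgroup containing `Q_{e1}` and `Q_{f1}` is everything
-/

set_option autoImplicit false

namespace Cfsg.Agent.Helper13.Sp4O

open Matrix

variable {F : Type*} [Field F]

/-- If `H ≤ Sp_4(F)` contains all `E(e1, a e2 + b f2, z)` and all `E(f1, a e2 + b f2, z)` then `H = ⊤`
(any field `F`, any characteristic). -/
theorem eq_top_of_Q (H : Subgroup (Sp4 F)) (hQe : ∀ a b z : F, MeS a b z ∈ H)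
    (hQf : ∀ a b z : F, MfS a b z ∈ H) : H = ⊤ := by
  have he1 : ∀ c : F, tvS e1 c ∈ H := fun c => by rw [tvS_e1]; exact hQe 0 0 c
  have hf1 : ∀ c : F, tvS f1 c ∈ H := fun c => by rw [tvS_f1]; exact hQf 0 0 c
  have hE := Cfsg.Agent.Helper89.Sp4O.tv_mem_of_e1_coord H hQf he1
  have hFc := Cfsg.Agent.Helper55.Sp4O.tv_mem_of_f1_coord H hQe hf1
  have hall : ∀ (w : V4 F) (c : F), tvS w c ∈ H := by
    intro w c
    by_cases h1 : w (Sum.inr 0) = 0
    · by_cases h2' : w (Sum.inl 0) = 0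
      · exact Cfsg.Agent.Helper22.Sp4O.tv_mem_of_coords_zero H hQe hE w h1 h2' c
      · exact hFc w h2' c
    · exact hE w h1 c
  exact eq_top_of_tv H hall

end Cfsg.Agent.Helper13.Sp4O
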